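import Cfsg.Agent.Lyons.ArithSpec

/-!
The data of sections 4-6 with the two relations of the moved parts (piece L5 in arithmetic form).

`J i` counts the regular summands of the part of row `i` moved by `O`; `turn` is the Galois permutation of the rows.
-/

set_option autoImplicit false

namespace Cfsg.Lib.Lyons

open Finset

universe u

/-- `RowsFive` without the repetition clause, with the Galois action as a permutation and `∑ J r = 0`. -/
structure RowsOrbit (ι : Type u) [Fintype ι] where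
  x : ι → ℕ
  p : ι → ℤ
  d : ι → ZMod 5 → ℤ
  J : ι → ℕ
  turn : ι ≃ ι
  orth_pp : ∑ i, p i * p i = 15
  orth_dd : ∀ b c, ∑ i, d i b * d i c =
    12 + (if b = c then 4 else 0) - (if b = 0 ∧ c = 0 then 1 else 0)
  orth_pd : ∀ b, ∑ i, p i * d i b = (if b = 0 then -1 else 0)
  count_a : ∑ i, ((∑ c, d i c) ^ 2 * p i : ℚ) / (x i : ℚ) = -1
  count_z : ∀ b : ZMod 5, b ≠ 0 → ∑ i, ((∑ c, d i c) ^ 2 * (d i b - d i 0) : ℚ) / (x i : ℚ) = 1
  turn_spec : ∀ i, x (turn i) = x i ∧ p (turn i) = p i ∧ J (turn i) = J i ∧ ∀ b, d (turn i) (2 * b) = d i b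
  moved_p : ∑ i, (J i : ℤ) * p i = 0
  moved_d : ∀ b, ∑ i, (J i : ℤ) * d i b = 0
  deg_p : ∑ i, (x i : ℤ) * p i = -1
  deg_d : ∀ b, ∑ i, (x i : ℤ) * d i b = (if b = 0 then -1 else 0)
  shape : ∀ i, 1 ≤ J i ∧ ∃ M R : ℕ, (x i : ℤ) = (∑ c, d i c) + 16 * M + 64 * J i ∧
    p i = (∑ c, d i c) - 16 * R + 4 * M ∧ (∀ b, 3 * (R : ℤ) ≤ d i b + M) ∧
    (M : ℤ) ≤ ∑ b, (d i b + M - 3 * R)

/-- Pieces L5 and L6 together: no such data. -/
def OrbitSpec : Prop := ∀ (ι : Type u) [Fintype ι], RowsOrbit ι → False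

end Cfsg.Lib.Lyons
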