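import Cfsg.Agent.Lyons.Main
import Cfsg.Agent.Lyons.Arith.Orbit.Main

/-!
`U₃(4)`-type residual: a simple group with a Sylow 2-subgroup of that type has a strongly embedded subgroup.
-/

set_option autoImplicit false

namespace Cfsg.Lib.Lyons

universe u

theorem lyonsProp : LyonsProp.{u} := lyonsProp_of_orbit Orbit.orbitSpec

end Cfsg.Lib.Lyons
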