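import Mathlib

/-!
Groups with a Sylow 2-subgroup of type `U₃(4)` (notes/lyons_v1.md): the two arithmetic statements.

`ι` stands for the non-principal characters of the principal 2-block.
-/

set_option autoImplicit false

namespace Cfsg.Lib.Lyons

open Finset

universe u

/-- The data of section 3: `d` is the value at the central involution, `p j` the value at the `j`-th class of
elements of order four, `x` the degree. -/
structure RowsOne (ι : Type u) [Fintype ι] where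
  x : ι → ℕ
  d : ι → ℤ
  p : ι → Fin 5 → ℤ
  orth_pp : ∀ j k, ∑ i, p i j * p i k = (if j = k then 15 else -1)
  orth_dp : ∀ j, ∑ i, d i * p i j = -1
  orth_dd : ∑ i, d i * d i = 63
  count : ∀ j, ∑ i, (d i * d i * p i j : ℚ) / (x i : ℚ) = -1
  deg : ∀ i, 12 ≤ x i
  congr : ∀ i, (16 : ℤ) ∣ (x i : ℤ) - d i
  lin : ∀ i j, (4 : ℤ) ∣ (∑ k, p i k) - p i j
  triv : ∀ i, (4 : ℤ) ∣ d i - ∑ k, p i k

/-- Piece L3 (section 3): no such data. -/
def OneSpec : Prop := ∀ (ι : Type u) [Fintype ι], RowsOne ι → False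

/-- The data of sections 4-6: `d i b` is the multiplicity of the `b`-th linear character at the central involution,
`p i` the value at an element of order four, `x i` the degree. -/
structure RowsFive (ι : Type u) [Fintype ι] where
  x : ι → ℕ
  p : ι → ℤ
  d : ι → ZMod 5 → ℤ
  orth_pp : ∑ i, p i * p i = 15
  orth_dd : ∀ b c, ∑ i, d i b * d i c =
    12 + (if b = c then 4 else 0) - (if b = 0 ∧ c = 0 then 1 else 0)
  orth_pd : ∀ b, ∑ i, p i * d i b = (if b = 0 then -1 else 0)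
  count_a : ∑ i, ((∑ c, d i c) ^ 2 * p i : ℚ) / (x i : ℚ) = -1
  count_z : ∀ b : ZMod 5, b ≠ 0 → ∑ i, ((∑ c, d i c) ^ 2 * (d i b - d i 0) : ℚ) / (x i : ℚ) = 1
  galois : ∀ i, ∃ j, x j = x i ∧ p j = p i ∧ ∀ b, d j (2 * b) = d i b
  shape : ∀ i, ∃ M R J : ℕ, 1 ≤ J ∧ (x i : ℤ) = (∑ c, d i c) + 16 * M + 64 * J ∧
    p i = (∑ c, d i c) - 16 * R + 4 * M ∧ (∀ b, 3 * (R : ℤ) ≤ d i b + M) ∧
    (M : ℤ) ≤ ∑ b, (d i b + M - 3 * R) ∧
    (J = 1 → ∃ s : Finset ι, 4 ≤ s.card ∧ ∀ j ∈ s, p j = p i ∧ ∃ k : (ZMod 5)ˣ, ∀ b, d j (k * b) = d i b)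

/-- Piece L6 (section 6): no such data.  With `q = d 0`, `v = (d 1, d 2, d 4, d 3)` and `m` the mean of `v`, the sum of
`10 p² + 5 q² + (12|v|² + 21⟨v,σv⟩ + 12⟨v,σ²v⟩)/4 + 31 p q - 43 p m - 5 q m + d_z² (234 p - 500 (m - q)) / x`
is `-12`, while every row makes it non-negative. -/
def CertSpec : Prop := ∀ (ι : Type u) [Fintype ι], RowsFive ι → False

end Cfsg.Lib.Lyons
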