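import Cfsg.Agent.BenderSE.Ring2.UType
import Cfsg.Agent.FourGroupGW.Setting
import Cfsg.Prelude.Def_Involutions
import Cfsg.Prelude.Def_Characters

/-!
Groups with a Sylow 2-subgroup of type `U₃(4)`: setting and the statements of the group-theoretic pieces.

The paper proof is `notes/lyons_v1.md`.
-/

set_option autoImplicit false
set_option linter.unusedSectionVars false

namespace Cfsg.Lib.Lyons

open Subgroup Cfsg.Lib.BenderSE.Ring2

universe u

variable {G : Type u} [Group G]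

/-- `R` looks like a Sylow 2-subgroup of `PSU₃(4)`. -/
structure UFour (R : Subgroup G) : Prop where
  cen_iff : ∀ x ∈ R, x * x = 1 ↔ x ∈ cenOf R
  sq_cen : ∀ x ∈ R, x * x ∈ cenOf R
  sqr : ∀ x ∈ R, x ∉ cenOf R → ∀ z ∈ cenOf R, ∃ y ∈ R, x * y = y * x ∧ y * y = z
  trans : ∀ x ∈ R, ∀ y ∈ R, ∀ w ∈ R, y ∉ cenOf R → x * y = y * x → y * w = w * y → x * w = w * x
  card_cen : Nat.card (cenOf R) = 4
  card_all : Nat.card R = 64

/-- A Sylow 2-subgroup, one of its involutions and an element permuting the three cyclically. -/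
structure Frame (G : Type u) [Group G] where
  S : Sylow 2 G
  ufour : UFour (S : Subgroup G)
  z : G
  z_mem : z ∈ cenOf (S : Subgroup G)
  z_ne : z ≠ 1
  f : G
  f_odd : Odd (orderOf f)
  f_norm : f ∈ normalizer ((S : Subgroup G) : Set G)
  f_moves : f * z * f⁻¹ ≠ z

namespace Frame

variable (F : Frame G)

/-- The centre of `S`. -/
def W : Subgroup G := cenOf (F.S : Subgroup G)

/-- The centraliser of `z`. -/
def C : Subgroup G := centralizer {F.z}

/-- Its odd core. -/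
def O : Subgroup G := GW.Core F.C

/-- The part of the core centralised by `W`. -/
def D : Subgroup G := F.O ⊓ centralizer (F.W : Set G)

theorem sylow_le_C : (F.S : Subgroup G) ≤ F.C := fun x hx =>
  mem_centralizer_singleton_iff.2 ((mem_cenOf.1 F.z_mem).2 x hx)

theorem O_le_C : F.O ≤ F.C := map_subtype_le _

theorem conj_mem_O {g u : G} (hg : g ∈ F.C) (hu : u ∈ F.O) : g * u * g⁻¹ ∈ F.O := by
  obtain ⟨v, hv, rfl⟩ := hu
  exact ⟨(⟨g, hg⟩ : F.C) * v * (⟨g, hg⟩ : F.C)⁻¹,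
    (inferInstance : (Cfsg.oddCore F.C).Normal).conj_mem v hv _, rfl⟩

/-- `u ↦ s u s⁻¹` on `O` for `s` in `S`. -/
def act (s : (F.S : Subgroup G)) (u : F.O) : F.O :=
  ⟨(s : G) * (u : G) * (s : G)⁻¹, F.conj_mem_O (F.sylow_le_C s.2) u.2⟩

/-- What holds in every case (section 1). -/
structure Good : Prop where
  fusion : ∀ a ∈ (F.S : Subgroup G), ∀ b ∈ (F.S : Subgroup G), IsConj a b →
    ∃ n ∈ normalizer ((F.S : Subgroup G) : Set G), n * a * n⁻¹ = b
  gen : ∀ M : Subgroup G, F.C ≤ M → F.f ∈ M → M = ⊤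
  moved : ¬ F.O ≤ centralizer (F.W : Set G)

/-- `E = 1`: the centraliser is `O S`, and `f` separates five classes of elements of order four. -/
structure One : Prop where
  cover : ∀ c ∈ F.C, ∃ o ∈ F.O, ∃ s ∈ (F.S : Subgroup G), c = o * s
  classes : ∀ a ∈ (F.S : Subgroup G), ∀ b ∈ (F.S : Subgroup G), a ∉ F.W → IsConj a b →
    ∃ k : ℕ, (F.f ^ k * a * (F.f ^ k)⁻¹)⁻¹ * b ∈ F.W

/-- `E = C₅`. -/
structure Five where
  e : G
  e_mem : e ∈ F.C
  e_norm : e ∈ normalizer ((F.S : Subgroup G) : Set G)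
  e_pgroup : IsPGroup 5 (zpowers e)
  e_notMem : e ∉ F.O
  e_pow : e ^ 5 ∈ F.O
  e_cen : ∀ w ∈ F.W, e * w = w * e
  f_comm : e * F.f = F.f * e
  cover : ∀ c ∈ F.C, ∃ o ∈ F.O, ∃ s ∈ (F.S : Subgroup G), ∃ k : ℕ, c = o * s * e ^ k
  classes : ∀ a ∈ (F.S : Subgroup G), ∀ b ∈ (F.S : Subgroup G), a ∉ F.W → b ∉ F.W → IsConj a b

/-- Piece L5 (section 5): a character with one free orbit on `O` has no small exponent. -/
def Five.SmallSpec {F : Frame G} (E : F.Five) : Prop :=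
  ∀ (χ : Cfsg.IrrCharacter G) (lam : ↥F.O →* ℂˣ) (n : ℕ),
    (∀ u v : F.O, u * v = v * u) →
    (∀ u v : F.O, E.e * (u : G) * E.e⁻¹ = v → lam v = lam u) →
    (∀ s : (F.S : Subgroup G), (∀ u : F.O, lam (F.act s u) = lam u) → (s : G) ∈ zpowers F.z) →
    0 < n →
    (∀ u : F.O, (χ : G → ℂ) u = (n : ℂ) + ∑ᶠ s : (F.S : Subgroup G), ((lam (F.act s u) : ℂˣ) : ℂ)) →
    (∀ u : F.O, (χ : G → ℂ) (F.z * u) = (χ : G → ℂ) F.z) →
    orderOf lam ≠ 3 ∧ orderOf lam ≠ 5 ∧ orderOf lam ≠ 7 ∧ orderOf lam ≠ 9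

end Frame

/-- Piece L1 (section 1). -/
def SetupSpec : Prop :=
  ∀ (G : Type u) [Group G] [Finite G] [IsSimpleGroup G] (S : Sylow 2 G), UFour (S : Subgroup G) →
    (¬ ∃ M : Subgroup G, Cfsg.IsStronglyEmbedded M) →
      ∃ F : Frame G, F.S = S ∧ F.Good ∧ (F.One ∨ Nonempty F.Five)

/-- Piece L5 for every frame. -/
def SmallExpSpec : Prop :=
  ∀ (G : Type u) [Group G] [Finite G] [IsSimpleGroup G] (F : Frame G), F.Good → ∀ E : F.Five, E.SmallSpec

/-- The goal: a strongly embedded subgroup. -/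
def LyonsProp : Prop :=
  ∀ (G : Type u) [Group G] [Finite G] [IsSimpleGroup G] (S : Sylow 2 G), UFour (S : Subgroup G) →
    ∃ M : Subgroup G, Cfsg.IsStronglyEmbedded M

end Cfsg.Lib.Lyons
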