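import Cfsg.Agent.Lyons.Local.Main
import Cfsg.Agent.Lyons.Arith.One
import Cfsg.Agent.Lyons.Chars.One
import Cfsg.Agent.Lyons.Chars.FiveRows

/-!
A finite simple group with a Sylow 2-subgroup of type `U₃(4)` has a strongly embedded subgroup, given the
arithmetic statement on the rows of the case `E = C₅`.
-/

set_option autoImplicit false

namespace Cfsg.Lib.Lyons

universe u

theorem lyonsProp_of_orbit (horb : OrbitSpec.{u}) : LyonsProp.{u} := by
  intro G _ _ _ S hS
  by_contra hno
  letI := Fintype.ofFinite G
  obtain ⟨F, -, hgood, hcase⟩ := setupSpec G S hS hno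
  rcases hcase with h | ⟨⟨E⟩⟩
  · exact h.absurd_of_spec hgood One.oneSpec
  · exact E.absurd_of_orbit hgood horb

end Cfsg.Lib.Lyons
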